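import Cfsg.Agent.HeCent.Data

/-! Check (generated, owner: helper12). -/

set_option autoImplicit false
set_option maxRecDepth 1000000

namespace Cfsg.Agent.HeCent

open Cfsg.Agent.CosetEnum Cfsg.Agent.H90.Sift Cfsg.Agent.SiftX

theorem c0 : lvS PC [] 1 mC0 30 0x3fffffff 2058 336 0x992c04c92c900004b4d265a49900005964000125a0024d34c00132cb04b4934804cb24900064b2492d32c900925924005a4c90000032c00012c96932d248009a6930006992c000000b00069a6400032490932c96816596490000126400026990d265924065a4d300001a4800926490134992424c92d20992cb2c024b24900b4d24806992d20032c92400d349901a6496804992cb0002cb2c00000190132c968265a49900249a6402c92c900125a4834cb25a0034924800002d20000c96800992d200065a48000269301969a48000265900164924000049369969264005a64900069264000124b04b4c924000004b09924b4800924d20196592400132490192c92400004d201a69924000049200064968000065900169348069a69200000068000324b00049a6404d34c90132d348024b2cb01924b24005a65900064b48000000301349348000b4cb0c96492400016490126592400992490002d24c000b4920196932400092d205a6496800cb4c900325a6400004cb00b2d32400992c900064b2c00034d200b4d264165a64901924b4c005a4990000024800002c90096992400000490004992c00d24d30cb2d26424cb4920000134c169a4c904b4934c165964b00325a4800000930016934d34cb49201a64b2c00c924901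24c92400002490002c968064b2cb01a69264009269200009968001964b04b4cb2434d32c90996932400026920012d324049a6930006932400002d30000d26406924cb01a6932400024c90134c924001a4d300024b4c00000020034cb24000164b01925924009a64900b2d264009a6590192d248005a6920002496800934920000016426924d20196926424d24d200024b24000064b0002492400034c900005a6400d269900065924001a69200b4cb24000005a00349a48065a6490000096800134d300265924000264900004b2c00134c90012d264325a6490000d32c349a6930012492404932cb01964b2c32d349905924b48001349201a49348000349201a4c92592d32c90000132404cb4c90032592406492d20026932400134934cb49348005969200b4934800032d20000cb2c02d34c90004cb2400000120034d24804926490000934800924cb0004926400d32490000d34c000165a00001a4c02d264b0d32d248000b2d30032c96800000c901264924009a6920026926416932c900169a4c00024990004924800006490000934c02592490000d24c001a64900164b2c00024922d324b48009925a0032d34800126920004932c000124901a6592400d34c90d324b4800c92d20000002400132d30004934800d34cb0000004c00124d30016592c02d24d300b2c924000b4990006934800d264b0002c92432492d30006492400016920012cb2c32d24d200165924065a65900001a6400134990c92c92400932cb00025a4812c92c90024cb2400096590126996400cb4990034934800002cb0cb4992c04c92d20000196800096990024c92400000010004992400024cb0134cb2406932c900125924009964b0126926400000d20016992da6924d20000cb24004b24900b25a48065964b0134934c04d34cb4992cb2c004b4920002592400cb49201325a4800492c900264b2c00000d30006996402cb4d200169a6400134cb0000092c00032d300324b24000b24b0c969348025a4d20cb24b2402d324900124b4800cb24b00124b4c04cb49200069a4c00d26490002d34802492d304b4d32400000990002d32400012d205924b240000000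 0 = true := by decide +kernel

theorem c1 : lvS PC [1] 385 mC1 60 0xfffffffffffffff 2058 64 0xd249965a00000269264b2c900000005a64b2c90000032d32496590000c969a4932c90004d32d24d34c900000265a4926590006932d24d324900064b4c964965900000009a64b2d200000004b4d265900000005964b2d224b2d26992c92c90000496496596920000492cb25964900004969a69269200001969324b2d200125a49a6926490000000cb49965900000265a6992590024c969a6932c90000016924c965900000000000b2590000000032496930000034cb24b4d20000032cb4c925900000009a6992d30000026926596990000000934d265a0000034932d34d200000165a4c925a00000004b2c965a0000496992c92cb0000032d324969a00000000325a4930000496592d26490000000cb49969a00001a49324b2c90000034926592590000996592cb24b0000c965a49964b0000934c92596930006934c965a4d20000d34c964969200000064b49a4930000c925a4cb25900000005a69924b00005964b2d32590002cb24969925900001269a49924b0000d24cb2596990000006924d34d200000965924b2c900000969a4992d30000196934c925a01969a64b4932c900269a49924b4d20000000cb2d325a00001a4996592590032d24c969a64900324b49965a4c90004d34996934c900000000000000000000005a659699 0 = true := by decide +kernel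

end Cfsg.Agent.HeCent
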